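import Groth.Agent.AGF.K493.SsImg
import Groth.Agent.S14762

/-!
# Quotients of semisimple groups are semisimple

`K784.SSQuot.isSemisimpleOver_of_surjective`: over an algebraically closed field the target of a flat
surjective homomorphism from a semisimple group to a group scheme of finite type is semisimple.
-/

set_option autoImplicit false

universe u

open CategoryTheory CategoryTheory.Limits MonoidalCategory CartesianMonoidalCategory MonObj GrpObj AlgebraicGeometry

namespace K784.SSQuot

variable (k : Type u) [Field k] [IsAlgClosed k]

/-- S2. quotients of semisimple groups are semisimple -/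
theorem isSemisimpleOver_of_surjective
    (D H : Over (Spec (CommRingCat.of k))) [GrpObj D] [GrpObj H] (hD : Red.IsSemisimpleOver k D)
    [LocallyOfFiniteType H.hom] [QuasiCompact H.hom]
    (π : D ⟶ H) [IsMonHom π] [Flat π.left] [Surjective π.left] : Red.IsSemisimpleOver k H := by
  have hs : Smooth H.hom := (Groth.Agent.S14762.result k D H hD.1 π).2.1
  exact K493.SsImg.isSemisimpleOver_of_surjective hD π

end K784.SSQuot
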